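import Cfsg.Agent.H570.Ore.RowB
import Cfsg.Agent.H664.Eight.Base
import Cfsg.Agent.H403.SporOrd
import Cfsg.Agent.OrdDiv.Table
import Cfsg.Agent.S0000
import Cfsg.Agent.S3331

/-!
# S4908, row B: the degrees of the Baby Monster (helper304)

* `BD d` : `d ∣ |B|`, `4032 ≤ d`, and the residues of `d` modulo `47, 31, 23, 19, 17`;
* `deg_facts` : a degree `d ≠ 1` of a simple group of order `|B|` satisfies `BD d`.
-/

set_option autoImplicit false

namespace Cfsg.Agent.H304.S8

open Cfsg Subgroup Cfsg.Agent.H570.Ore.Abs Cfsg.Agent.H570.Ore.Num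
open Cfsg.Agent.H653.Sieve
open Cfsg.Agent.H570.Ore

universe u v

/-- what is known about every degree `d ≠ 1` -/
structure BD (d : ℕ) : Prop where
  dvd : d ∣ 4154781481226426191177580544000000
  ge : 4032 ≤ d
  r47 : d % 47 ∈ [0, 1, 46, 23, 24]
  r31 : d % 31 ∈ [0, 1, 30, 15, 16]
  r23 : d % 23 ∈ [0, 1, 22, 11, 12]
  r19 : d % 19 ∈ [0, 1, 18]
  r17 : d % 17 ∈ [0, 1, 16, 2, 15]

theorem r3_mem {p n : ℕ} (h : r3 p n = true) : n % p = 0 ∨ n % p = 1 ∨ n % p = p - 1 := by
  unfold r3 at h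
  rw [Bool.or_eq_true, Bool.or_eq_true, Nat.beq_eq, Nat.beq_eq, Nat.beq_eq] at h
  tauto

theorem bd_of_dt {G : Type u} [Group G] [Finite G] [IsSimpleGroup G] {Z : G} (D : Dt G Z) (χ : IrrCharacter G)
    (hχ : (χ : G → ℂ) ≠ 1) : BD (charDegree (χ : G → ℂ)) := by
  have hdvd : charDegree (χ : G → ℂ) ∣ NB := by rw [← D.card]; exact H511.Ore.charDegree_dvd χ
  obtain ⟨k, hk⟩ := D.ext χ
  have hk1 : 1 ≤ k := Ext.one_le hχ D.Z_ne (c := 4096) (by norm_num) (by rw [hk]; push_cast; ring)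
  obtain ⟨m, rfl⟩ := Int.eq_ofNat_of_zero_le (by omega : 0 ≤ k)
  have hm1 : 1 ≤ m := by exact_mod_cast hk1
  have hm : 4032 * m ≤ charDegree (χ : G → ℂ) := by exact_mod_cast D.pure χ m hk
  -- 47
  have hF47 : Fact (Nat.Prime 47) := ⟨by norm_num⟩
  have hF31 : Fact (Nat.Prime 31) := ⟨by norm_num⟩
  have hF23 : Fact (Nat.Prime 23) := ⟨by norm_num⟩
  obtain ⟨x47, hx47, hc47⟩ := D.x47
  obtain ⟨P, K, hK, hP, -, hp2, ht, he, hKc⟩ := exists_blk D.nonab D.card hx47 (k := 1) (by rw [hc47])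
    23 2 [(0, 0), (1, 2), (46, -2), (23, -1), (24, 1)] 2 true (by decide +kernel)
  obtain ⟨h47, -⟩ := res hK hP (by omega) hp2 he ht (by decide) (by norm_num) χ
  -- 31
  obtain ⟨x31, hx31, hc31⟩ := D.x31
  obtain ⟨Q, M, hM, hQ, -, hq2, hqt, hqe, hMc⟩ := exists_blk D.nonab D.card hx31 (k := 1) (by rw [hc31])
    15 2 [(0, 0), (1, 2), (30, -2), (15, -1), (16, 1)] 2 true (by decide +kernel)
  obtain ⟨h31, -⟩ := res hM hQ (by omega) hq2 hqe hqt (by decide) (by norm_num) χ
  -- 23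
  obtain ⟨x23, hx23, hxZ, hc23⟩ := D.x23
  obtain ⟨P', K', hK', hP', hPx', hp2', ht', he', hKc'⟩ := exists_blk D.nonab D.card hx23 (k := 2) (by rw [hc23])
    11 2 [(0, 0), (1, 2), (22, -2), (11, -1), (12, 1)] 0 false (by decide +kernel)
  obtain ⟨h23, -⟩ := res hK' hP' (by omega) hp2' he' ht' (by decide) (by norm_num) χ
  -- 19 and 17
  have h19 : charDegree (χ : G → ℂ) % 19 ∈ [0, 1, 18] := by
    obtain ⟨x, hx, hc⟩ := D.x19
    have h1 := H511.Ore.res_of_has D.nonab D.card (c := ⟨19, 2, 18, 1, [(0, 0), (1, 1), (18, -1)], 0, false⟩)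
      ⟨by norm_num, x, hx, hc.trans (by norm_num)⟩ (by decide +kernel) χ
    simp only [List.any_cons, List.any_nil, Bool.or_false, Bool.or_eq_true, Nat.beq_eq] at h1
    simpa using h1
  have h17 : charDegree (χ : G → ℂ) % 17 ∈ [0, 1, 16, 2, 15] := by
    obtain ⟨x, hx, hc⟩ := D.x17
    have h1 := H511.Ore.res_of_has D.nonab D.card
      (c := ⟨17, 4, 16, 1, [(0, 0), (1, 1), (16, -1), (2, 2), (15, -2)], 0, false⟩)
      ⟨by norm_num, x, hx, hc.trans (by norm_num)⟩ (by decide +kernel) χ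
    simp only [List.any_cons, List.any_nil, Bool.or_false, Bool.or_eq_true, Nat.beq_eq] at h1
    simpa using h1
  refine ⟨hdvd, by omega, ?_, ?_, ?_, h19, h17⟩
  · rcases h47 with h | h
    · have := r3_mem h; simp only [List.mem_cons, List.not_mem_nil, or_false]; omega
    · have := r2_spec.2 h; simp only [List.mem_cons, List.not_mem_nil, or_false]; omega
  · rcases h31 with h | h
    · have := r3_mem h; simp only [List.mem_cons, List.not_mem_nil, or_false]; omega
    · have := r2_spec.2 h; simp only [List.mem_cons, List.not_mem_nil, or_false]; omega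
  · rcases h23 with h | h
    · have := r3_mem h; simp only [List.mem_cons, List.not_mem_nil, or_false]; omega
    · have := r2_spec.2 h; simp only [List.mem_cons, List.not_mem_nil, or_false]; omega

/-- a simple group of order `|B|` is the Baby Monster -/
theorem isoB_of {X : Type v} [Group X] [Finite X] (hX : Cfsg.IsB X) : Spor.IsoB X := by
  have hs := hX.1
  refine H403.real_of_card OrdDiv.table (S0000.result (G := X)) ?_ (x := (.b, 4154781481226426191177580544000000,
    [(2,41),(3,13),(5,6),(7,2),(11,1),(13,1),(17,1),(19,1),(23,1),(31,1),(47,1)])) (by decide +kernel) hX.2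
  intro hcomm
  let _ : CommGroup X := { (inferInstance : Group X) with mul_comm := hcomm }
  have h5 : (Nat.card X).Prime := IsSimpleGroup.prime_card
  rw [hX.2] at h5
  norm_num at h5

/-- **The degrees of the Baby Monster.** -/
theorem deg_facts {X : Type v} [Group X] [Finite X] (hX : Cfsg.IsB X) {d : ℕ} (hd : d ∈ charDegrees X) (h1 : d ≠ 1) :
    BD d := by
  have := RowB.simple
  obtain ⟨e⟩ := KFacts.Baby.RowB.exists_iso (isoB_of hX)
  rw [← H664.Eight.charDegrees_congr e] at hd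
  obtain ⟨χ, rfl⟩ := hd
  refine bd_of_dt (RowB.dt fun _ _ _ X hX hC => S3331.result X hX hC) χ fun h => h1 ?_
  rw [h]
  unfold charDegree
  simp

end Cfsg.Agent.H304.S8
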