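import Cfsg.Agent.H304.S8.BDeg
import Cfsg.Agent.H196.S8.FiSocOne
import Cfsg.Agent.H492.FactsHN
import Cfsg.Agent.H492.FactsTh
import Cfsg.Agent.H492.FactsON
import Cfsg.Agent.H273.EP.J3

/-!
# S4908: the row SOC1 of the Baby Monster (helper304, after helper196)

The residues of the degrees modulo 47 and 31 and the bound 4032 exclude all prime powers, the degrees `m - 1` of the
alternating groups and a degree of each sporadic group.
-/

set_option autoImplicit false
set_option maxRecDepth 100000

namespace Cfsg.Agent.H304.S8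

open Cfsg Subgroup
open Cfsg.Agent.H691.AN (AlmostSimple)
open Cfsg.Agent.H196.S8 (exists_dvd_degree exists_split prime_deg two_deg lie_pp alt_deg lie_five prime_dvd_alt
  mem_of_irr mem_of_irr' mem_of_equiv)

universe u v

/-- the admissible numbers -/
def ok (d : ℕ) : Bool :=
  Nat.ble 4032 d && ([0, 1, 46, 23, 24].contains (d % 47) && [0, 1, 30, 15, 16].contains (d % 31))

theorem BD.ok {d : ℕ} (h : BD d) : ok d = true := by
  have h1 := h.ge
  have h2 := h.r47
  have h3 := h.r31
  rw [S8.ok, Bool.and_eq_true, Bool.and_eq_true]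
  exact ⟨Nat.ble_eq_true_of_le h1, List.contains_iff_mem.2 h2, List.contains_iff_mem.2 h3⟩

theorem pp_chk : ∀ r ∈ [2, 3, 5, 7, 11, 13, 17, 19, 23, 31, 47], ∀ v ∈ List.range 112, 1 ≤ v →
    ¬ (r ^ v ∣ 4154781481226426191177580544000000 ∧ ok (r ^ v) = true) := by
  decide +kernel

theorem prime_of_dvd {r : ℕ} (hr : r.Prime) (h : r ∣ 4154781481226426191177580544000000) :
    r ∈ [2, 3, 5, 7, 11, 13, 17, 19, 23, 31, 47] := by
  have h1 : (4154781481226426191177580544000000 : ℕ) =
      2 ^ 41 * (3 ^ 13 * (5 ^ 6 * (7 ^ 2 * (11 * (13 * (17 * (19 * (23 * (31 * 47))))))))) := by norm_num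
  rw [h1] at h
  have key : ∀ {p k m : ℕ}, p.Prime → r ∣ p ^ k * m → r = p ∨ r ∣ m := by
    intro p k m hp h
    rcases hr.dvd_mul.1 h with h | h
    · exact Or.inl ((Nat.prime_dvd_prime_iff_eq hr hp).1 (hr.dvd_of_dvd_pow h))
    · exact Or.inr h
  have key1 : ∀ {p m : ℕ}, p.Prime → r ∣ p * m → r = p ∨ r ∣ m := by
    intro p m hp h
    rcases hr.dvd_mul.1 h with h | h
    · exact Or.inl ((Nat.prime_dvd_prime_iff_eq hr hp).1 h)
    · exact Or.inr h
  rcases key (by norm_num) h with rfl | h
  · decide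
  rcases key (by norm_num) h with rfl | h
  · decide
  rcases key (by norm_num) h with rfl | h
  · decide
  rcases key (by norm_num) h with rfl | h
  · decide
  rcases key1 (by norm_num) h with rfl | h
  · decide
  rcases key1 (by norm_num) h with rfl | h
  · decide
  rcases key1 (by norm_num) h with rfl | h
  · decide
  rcases key1 (by norm_num) h with rfl | h
  · decide
  rcases key1 (by norm_num) h with rfl | h
  · decide
  rcases key1 (by norm_num) h with rfl | h
  · decide
  have h2 := (Nat.prime_dvd_prime_iff_eq hr (by norm_num)).1 h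
  rw [h2]
  decide

theorem no_pp {r v : ℕ} (hr : r.Prime) (hv : 0 < v) (h1 : r ^ v ∣ 4154781481226426191177580544000000)
    (h2 : ok (r ^ v) = true) : False := by
  have h3 := prime_of_dvd hr ((dvd_pow_self r hv.ne').trans h1)
  have h4 : v < 112 := by
    by_contra hcon
    have h5 : 2 ^ 112 ≤ r ^ v := (Nat.pow_le_pow_right (by norm_num) (by omega)).trans (Nat.pow_le_pow_left hr.two_le v)
    have h6 := Nat.le_of_dvd (by norm_num) h1
    omega
  exact pp_chk r h3 v (List.mem_range.2 h4) hv ⟨h1, h2⟩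

section

variable {A : Type u} [Group A] [Finite A] {S : Subgroup A} (hA : AlmostSimple A S)
  (hD : ∀ d ∈ charDegrees A, d = 1 ∨ (d ∣ 4154781481226426191177580544000000 ∧ ok d = true))

include hA hD

theorem pr {p : ℕ} (hp : p.Prime) (hd : p ∣ Nat.card S) : p ∣ 4154781481226426191177580544000000 := by
  obtain ⟨d, h1, h2⟩ := prime_deg hA hp hd
  rcases hD d h1 with rfl | h
  · exact absurd (Nat.dvd_one.1 h2) hp.one_lt.ne'
  · exact h2.trans h.1

theorem two (hout : Nat.card (Out S) ≤ 2) {a : ℕ} (ha : a ∈ charDegrees S) (ha1 : 1 < a)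
    (h1 : ok a = true → False) (h2 : ok (2 * a) = true → False) : False := by
  rcases two_deg hA hout ha with h | h
  · rcases hD _ h with h | h
    · omega
    · exact h1 h.2
  · rcases hD _ h with h | h
    · omega
    · exact h2 h.2

theorem lie {r : ℕ} (hr : r.Prime) (h : IsLieTypeChar r S) : False := by
  obtain ⟨v, hv, h1⟩ := lie_pp hA hr h
  rcases hD _ h1 with h2 | h2
  · have := Nat.one_lt_pow hv.ne' hr.one_lt
    omega
  · exact no_pp hr hv h2.1 h2.2

theorem alt {m : ℕ} (hm : 5 ≤ m) (e : S ≃* alternatingGroup (Fin m)) : False := by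
  rcases Nat.lt_or_ge m 7 with h7 | h7
  · have : m = 5 ∨ m = 6 := by omega
    rcases this with rfl | rfl
    · exact lie hA hD (by norm_num) (lie_five e)
    · exact lie hA hD (r := 3) (by norm_num) (H679.isLie_six ⟨e⟩)
  · have h28 : m ≤ 28 := by
      by_contra hcon
      have h1 := pr hA hD (p := 29) (by norm_num)
        (by rw [Nat.card_congr e.toEquiv]; exact prime_dvd_alt (by norm_num) (by norm_num) hm (by omega))
      norm_num at h1
    rcases hD _ (alt_deg hA h7 e) with h1 | ⟨-, h1⟩
    · omega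
    · rw [ok, Bool.and_eq_true] at h1
      have := Nat.le_of_ble_eq_true h1.1
      omega

theorem tits (h : Lie.IsoTits S) : False := by
  have hout := H489.card_out_tits h
  obtain ⟨e⟩ := h
  obtain ⟨f⟩ := H707.RowTits.equiv
  exact two hA hD hout (mem_of_equiv (e.trans f) H678.DG.Tits.deg_78) (by norm_num) (by decide) (by decide)

theorem spor (h : IsSporadicGroup S) : Spor.IsoB S := by
  have hout := H489.card_out_sporadic h
  have key : ∀ {a : ℕ}, a ∈ charDegrees S → 1 < a → (ok a = true → False) →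
      (ok (2 * a) = true → False) → Spor.IsoB S :=
    fun ha ha1 h1 h2 => (two hA hD hout ha ha1 h1 h2).elim
  have kp : ∀ {p N : ℕ}, p.Prime → Nat.card S = N → p ∣ N → ¬ p ∣ 4154781481226426191177580544000000 →
      Spor.IsoB S :=
    fun hp h1 h2 h3 => (h3 (pr hA hD hp (by rw [h1]; exact h2))).elim
  rcases h with h | h | h | h | h | h | h | h | h | h | h | h | h | h | h | h | h | h | h | h | h | h | h | h | h | h
  · obtain ⟨h1, h2, -⟩ := H603.FD.Spor.m11 (UGT.End.MEleven.isM11 h)
    exact key h1 (by norm_num) (by decide) (by decide)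
  · obtain ⟨h1, h2, -⟩ := H603.FD.Spor.m12 (H603.FD.Spor.isM12 h)
    exact key h1 (by norm_num) (by decide) (by decide)
  · obtain ⟨h1, h2, -⟩ := H603.FD.Spor.m22 (H417.RecogMathieu.isM22 h)
    exact key h1 (by norm_num) (by decide) (by decide)
  · obtain ⟨h1, h2, -⟩ := H603.FD.Spor.m23 (H417.RecogMathieu.isM23 h)
    exact key h2 (by norm_num) (by decide) (by decide)
  · obtain ⟨h1, -, h2, -⟩ := H603.FD.Spor.m24 (H417.RecogMathieu.isM24 h)
    exact key h1 (by norm_num) (by decide) (by decide)
  · -- J1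
    have := hA.simple
    have hc := NotCT.Orders.j1 h
    obtain ⟨d, h1, h2⟩ := exists_dvd_degree hA.nonab (p := 19) (by norm_num) (by rw [hc]; norm_num)
    have h3 : d * d ≤ 175560 := by
      have h4 := H424.DegTools.sq_le h1 ⊥ bot_le
      rw [Subgroup.index_bot, hc] at h4
      nlinarith
    have h4 : d ≤ 419 := by
      by_contra hcon
      have : 420 * 420 ≤ d * d := Nat.mul_le_mul (by omega) (by omega)
      omega
    have h5 : 1 < d := by
      have h6 := Nat.le_of_dvd (H424.DegTools.pos_of_mem h1) h2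
      omega
    refine key h1 h5 (fun h => ?_) (fun h => ?_)
    · rw [ok, Bool.and_eq_true] at h
      have := Nat.le_of_ble_eq_true h.1
      omega
    · rw [ok, Bool.and_eq_true] at h
      have := Nat.le_of_ble_eq_true h.1
      omega
  · exact key (H672.SporIM.j2 h).2 (by norm_num) (by decide) (by decide)
  · obtain ⟨F, i1, i2, ω, hF, hω, ⟨e⟩⟩ := h
    have h1 : Spor.IsoJ3 (Spor.J3 F ω) := ⟨F, i1, i2, ω, hF, hω, ⟨MulEquiv.refl _⟩⟩
    have hc := NotCT.Orders.j3 h1
    have : Finite (Spor.J3 F ω) := Nat.finite_of_card_ne_zero (by rw [hc]; norm_num)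
    exact key (mem_of_equiv e (H273.EP.J3.exists_deg h1).1) (by norm_num) (by decide) (by decide)
  · exact kp (p := 43) (by norm_num) (NotCT.Orders.j4 h) (by norm_num) (by norm_num)
  · obtain ⟨e⟩ := h
    exact key (mem_of_equiv e H843.IMC.Co1B.hasDeg_276) (by norm_num) (by decide) (by decide)
  · obtain ⟨e⟩ := h
    exact key (mem_of_equiv e H843.IMC.Co2A.hasDeg_23) (by norm_num) (by decide) (by decide)
  · obtain ⟨e⟩ := h
    exact key (mem_of_equiv e H843.IMC.Co3A.hasDeg_23) (by norm_num) (by decide) (by decide)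
  · exact key (mem_of_irr (H765.DS.HSMcL.mcl_22 h)) (by norm_num) (by decide) (by decide)
  · exact key (mem_of_irr (H765.DS.HSMcL.hs_22 h)) (by norm_num) (by decide) (by decide)
  · exact key (H672.SporIM.suz h).2 (by norm_num) (by decide) (by decide)
  · obtain ⟨e⟩ := h
    exact key (mem_of_equiv e H678.DG.HeDegA.deg_680) (by norm_num) (by decide) (by decide)
  · exact kp (p := 29) (by norm_num) (NotCT.Orders.ru h) (by norm_num) (by norm_num)
  · obtain ⟨e⟩ := h
    exact key (mem_of_equiv e (mem_of_irr' H492.FactsON.exists_10944)) (by norm_num) (by decide) (by decide)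
  · exact kp (p := 67) (by norm_num) (NotCT.Orders.ly h) (by norm_num) (by norm_num)
  · exact key (mem_of_irr (H3.DS.Fi22.exists_deg h).1) (by norm_num) (by decide) (by decide)
  · exact key (H672.SporIM.fi23 h).2 (by norm_num) (by decide) (by decide)
  · exact kp (p := 29) (by norm_num) (NotCT.Orders.fi24 h) (by norm_num) (by norm_num)
  · obtain ⟨e⟩ := h
    exact key (mem_of_equiv e (mem_of_irr' H492.IMHN.exists_8910)) (by norm_num) (by decide) (by decide)
  · obtain ⟨e⟩ := h
    exact key (mem_of_equiv e (mem_of_irr' H492.FactsTh.exists_30875)) (by norm_num) (by decide) (by decide)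
  · exact h
  · exact kp (p := 71) (by norm_num) (NotCT.Orders.m h) (by norm_num) (by norm_num)

theorem main : Spor.IsoB S := by
  have := hA.simple
  rcases exists_split S hA.nonab with ⟨l, hl, ⟨e⟩⟩ | ⟨r, hr, h⟩ | h | h
  · exact (alt hA hD hl e).elim
  · exact (lie hA hD hr h).elim
  · exact (tits hA hD h).elim
  · exact spor hA hD h

end

/-- **SOC1 for the Baby Monster.** -/
theorem soc1_B {X : Type v} [Group X] [Finite X] (hX : Cfsg.IsB X) {D : Set ℕ} (hD : H704.S8.Deg 1 X D) :
    H704.S8.Soc1.{u} D X := by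
  intro A _ _ S hA h
  obtain rfl : D = charDegrees X := hD.resolve_right fun h => absurd h.1 (by norm_num)
  obtain ⟨e⟩ := main hA fun d hd => or_iff_not_imp_left.2 fun h1 =>
    ⟨(deg_facts hX (h hd) h1).dvd, (deg_facts hX (h hd) h1).ok⟩
  obtain ⟨f⟩ := isoB_of hX
  exact ⟨e.trans f.symm⟩

end Cfsg.Agent.H304.S8
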